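import Groth.Agent.KFlatLib.Ring.LocalFibre
import Groth.Agent.KFlatLib.Ring.BaseChangeFibre
import Groth.Agent.KFlatLib.Ring.ReflexiveDepth
import Groth.Agent.KFlatLib.Ring.KerDepth
import Mathlib.RingTheory.Spectrum.Prime.FreeLocus

/-!
# Kernels of maps of projective modules
-/

set_option autoImplicit false
set_option linter.style.haveILetI false
set_option linter.unusedSectionVars false

universe u

open TensorProduct IsLocalRing

namespace Groth.Agent.H1FourTerm

open KFlatLib

variable {B : Type u} [CommRing B] [IsNoetherianRing B] (J : Ideal B)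

theorem le_idealDepth_projective (k : ℕ) (hB : (k : ℕ∞) ≤ LocCoh.idealDepth J B) (E : Type u) [AddCommGroup E]
    [Module B E] [Module.Finite B E] [Module.Projective B E] : (k : ℕ∞) ≤ LocCoh.idealDepth J E := by
  obtain ⟨n, π, hπ⟩ := Module.Finite.exists_fin' B E
  obtain ⟨s, hs⟩ := Module.projective_lifting_property π LinearMap.id hπ
  exact le_idealDepth_of_retract J s π (LinearMap.congr_fun hs) (le_idealDepth_pi J k hB n)

variable {F E0 E1 G : Type u} [AddCommGroup F] [Module B F] [Module.Finite B F]
  [AddCommGroup E0] [Module B E0] [Module.Finite B E0] [Module.Projective B E0]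
  [AddCommGroup E1] [Module B E1] [Module.Finite B E1] [Module.Projective B E1]
  [AddCommGroup G] [Module B G] [Module.Finite B G]
  {f : F →ₗ[B] E0} {u : E0 →ₗ[B] E1} {v : E1 →ₗ[B] G}
  (hf : Function.Injective f) (hfu : Function.Exact f u) (huv : Function.Exact u v) (hv : Function.Surjective v)
include hf hfu huv hv

/-- The first term is free where the last is. -/
theorem free_of_free (q : Ideal B) [q.IsPrime]
    (hG : Module.Free (Localization.AtPrime q) (LocalizedModule q.primeCompl G)) :
    Module.Free (Localization.AtPrime q) (LocalizedModule q.primeCompl F) := by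
  let L := Localization.AtPrime q
  haveI : IsNoetherianRing L := IsLocalization.isNoetherianRing q.primeCompl _ inferInstance
  let f' := LocalizedModule.map q.primeCompl f
  let u' := LocalizedModule.map q.primeCompl u
  let v' := LocalizedModule.map q.primeCompl v
  have hf' : Function.Injective f' := LocalizedModule.map_injective _ f hf
  have hfu' : Function.Exact f' u' := LocalizedModule.map_exact _ f u hfu
  have huv' : Function.Exact u' v' := LocalizedModule.map_exact _ u v huv
  have hv' : Function.Surjective v' := LocalizedModule.map_surjective _ v hv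
  haveI : Module.Projective L (LocalizedModule q.primeCompl E0) :=
    Module.projective_of_isLocalizedModule q.primeCompl (LocalizedModule.mkLinearMap q.primeCompl E0)
  haveI : Module.Projective L (LocalizedModule q.primeCompl E1) :=
    Module.projective_of_isLocalizedModule q.primeCompl (LocalizedModule.mkLinearMap q.primeCompl E1)
  haveI : Module.Flat L (LinearMap.range u') := flat_of_flat_quotient
    (f := (LinearMap.range u').subtype) (g := v') Subtype.val_injective
    (fun z => (huv' z).trans ⟨fun ⟨w, hw⟩ => ⟨⟨z, w, hw⟩, rfl⟩, fun ⟨w, hw⟩ => hw ▸ w.2⟩) hv'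
  have hexF : Function.Exact f' u'.rangeRestrict := fun z =>
    ⟨fun h => (hfu' z).1 (congrArg Subtype.val h), fun h => Subtype.ext ((hfu' z).2 h)⟩
  haveI : Module.Flat L (LocalizedModule q.primeCompl F) :=
    flat_of_flat_quotient (f := f') (g := u'.rangeRestrict) hf' hexF u'.surjective_rangeRestrict
  haveI : Module.Finite L (LocalizedModule q.primeCompl F) :=
    Module.Finite.of_isLocalizedModule q.primeCompl (LocalizedModule.mkLinearMap _ _)
  exact Module.free_of_flat_of_isLocalRing

/-- Kernels of maps of projective modules with free cokernel off `V(J)` are reflexive. -/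
theorem isReflexive_kernel (hB : ((2 : ℕ) : ℕ∞) ≤ LocCoh.idealDepth J B)
    (hFU : ∀ q : PrimeSpectrum B, ¬ J ≤ q.asIdeal →
      Module.Free (Localization.AtPrime q.asIdeal) (LocalizedModule q.asIdeal.primeCompl F)) :
    Module.IsReflexive B F ∧ 2 ≤ LocCoh.idealDepth J F := by
  have hB1 : ((1 : ℕ) : ℕ∞) ≤ LocCoh.idealDepth J B := le_trans (Nat.cast_le.2 one_le_two) hB
  have h0 := le_idealDepth_projective J 2 hB E0
  have h1 := le_idealDepth_projective J 1 hB1 E1
  rw [Nat.cast_one] at hB1 h1
  rw [Nat.cast_ofNat] at h0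
  have hd := two_le_idealDepth_of_exact J f u hf hfu h0 h1
  refine ⟨isReflexive_of_off J hB1 F (fun p hp => ?_) hd, hd⟩
  haveI := hFU p hp
  haveI : Module.Finite (Localization.AtPrime p.asIdeal) (LocalizedModule p.asIdeal.primeCompl F) :=
    Module.Finite.of_isLocalizedModule p.asIdeal.primeCompl (LocalizedModule.mkLinearMap _ _)
  infer_instance

end Groth.Agent.H1FourTerm

namespace Groth.Agent.H1FourTerm

open KFlatLib

theorem fibLocMod_self {A B : Type u} [CommRing A] [CommRing B] [IsNoetherianRing A] [IsNoetherianRing B] [Algebra A B]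
    (J : Ideal B) (k : ℕ∞)
    (h : ∀ q : PrimeSpectrum B, J ≤ q.asIdeal →
      k ≤ LocCoh.idealDepth (q.asIdeal.map (algebraMap B (EGA4.FibLocRing A B q.asIdeal))) (EGA4.FibLocRing A B q.asIdeal))
    (q : PrimeSpectrum B) (hq : J ≤ q.asIdeal) :
    k ≤ LocCoh.idealDepth (q.asIdeal.map (algebraMap B (EGA4.FibLocRing A B q.asIdeal))) (EGA4.FibLocMod A B q.asIdeal B) := by
  haveI := FlatLoc6.isLocalRing_fibLocRing (A := A) q.asIdeal
  have hk := h q hq
  rw [map_eq_maximalIdeal_fibLocRing q.asIdeal] at hk ⊢
  rw [show LocCoh.idealDepth (maximalIdeal (EGA4.FibLocRing A B q.asIdeal))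
      (EGA4.FibLocMod A B q.asIdeal B) = LocCoh.depth (EGA4.FibLocRing A B q.asIdeal) (EGA4.FibLocMod A B q.asIdeal B) from rfl,
    FlatLoc6.fibDepth_eq, FlatLoc6.fibDepth_self]
  exact hk

end Groth.Agent.H1FourTerm
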